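import Groth.Agent.Etdl.H436.Approx
import Mathlib.RingTheory.Etale.StandardEtale
import Mathlib.RingTheory.PowerSeries.WeierstrassPreparation

/-!
# Étale models over `R[X]` of finite algebras over `R[[X]]`

`R` complete Noetherian local, `P` a monic polynomial over `R[[X]]` with `a P + b P' = d`, where `d`
is a non-unit which is non-zero modulo the maximal ideal of `R`.  Then `(R[[X]][Y]/P)[1/(x d)]` is the
base change of an étale `R[X]`-algebra.
-/

set_option autoImplicit false

universe u

open Polynomial IsLocalRing TensorProduct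

namespace Groth.Agent.Etdl.H217.EtaleModel

section Away

variable {B : Type u} [CommRing B] {A A' : Type u} [CommRing A] [CommRing A'] [Algebra B A]
  [Algebra B A']

/-- Localizations away from elements dividing a power of each other. -/
theorem nonempty_away_equiv (e : A ≃ₐ[B] A') (s : A) (t : A') (n m : ℕ) (h1 : e s ∣ t ^ n)
    (h2 : t ∣ (e s) ^ m) :
    Nonempty (Localization.Away s ≃ₐ[B] Localization.Away t) := by
  have hu1 : IsUnit (((Algebra.algHom B A' (Localization.Away t)).comp e.toAlgHom) s) := by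
    change IsUnit (algebraMap A' (Localization.Away t) (e s))
    have h3 : IsUnit (algebraMap A' (Localization.Away t) (t ^ n)) := by
      rw [map_pow]
      exact (IsLocalization.Away.algebraMap_isUnit t).pow n
    exact isUnit_of_dvd_unit (_root_.map_dvd _ h1) h3
  have hu2 : IsUnit (((Algebra.algHom B A (Localization.Away s)).comp e.symm.toAlgHom) t) := by
    change IsUnit (algebraMap A (Localization.Away s) (e.symm t))
    have h3 : IsUnit (algebraMap A (Localization.Away s) (s ^ m)) := by
      rw [map_pow]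
      exact (IsLocalization.Away.algebraMap_isUnit s).pow m
    refine isUnit_of_dvd_unit (_root_.map_dvd _ ?_) h3
    have := _root_.map_dvd e.symm h2
    rwa [map_pow, AlgEquiv.symm_apply_apply] at this
  refine ⟨.ofAlgHom (IsLocalization.Away.liftAlgHom s hu1) (IsLocalization.Away.liftAlgHom t hu2)
    ?_ ?_⟩
  · ext x
    simp [Algebra.algHom]
  · ext x
    simp [Algebra.algHom]

end Away

section Main

variable {B : Type u} [CommRing B] [IsLocalRing B] [IsNoetherianRing B]
  [IsAdicComplete (maximalIdeal B) B]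

/-- The derivative of `Q = P + d ^ 3 S` divides `d` modulo `Q`. -/
theorem derivative_dvd (P Q S a b : B[X]) (d : B) (hd : d ∈ maximalIdeal B)
    (hab : a * P + b * derivative P = C d) (hPQ : Q = P + C (d ^ 3) * S) (hQ : Q.Monic) :
    AdjoinRoot.mk Q (derivative Q) ∣ algebraMap B (AdjoinRoot Q) d := by
  have := hQ.finite_adjoinRoot
  have := H436.Krasner.henselianRing_of_finite (B := B) (AdjoinRoot Q)
  set I := (maximalIdeal B).map (algebraMap B (AdjoinRoot Q)) with hI
  set w : AdjoinRoot Q := algebraMap B (AdjoinRoot Q) d with hw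
  have hwI : w ∈ I := Ideal.mem_map_of_mem _ hd
  have hC : ∀ c : B, AdjoinRoot.mk Q (C c) = algebraMap B (AdjoinRoot Q) c := fun c => rfl
  have h0 : AdjoinRoot.mk Q P + w ^ 3 * AdjoinRoot.mk Q S = 0 := by
    have h1 := congrArg (AdjoinRoot.mk Q) hPQ
    rw [AdjoinRoot.mk_self, map_add, map_mul, hC, map_pow] at h1
    exact h1.symm
  have h1 : AdjoinRoot.mk Q (derivative Q) =
      AdjoinRoot.mk Q (derivative P) + w ^ 3 * AdjoinRoot.mk Q (derivative S) := by
    have h1 := congrArg (fun p => AdjoinRoot.mk Q (derivative p)) hPQ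
    rw [derivative_add, derivative_C_mul, map_add, map_mul, hC, map_pow] at h1
    exact h1
  have h2 : AdjoinRoot.mk Q a * AdjoinRoot.mk Q P +
      AdjoinRoot.mk Q b * AdjoinRoot.mk Q (derivative P) = w := by
    have h1 := congrArg (AdjoinRoot.mk Q) hab
    rwa [map_add, map_mul, map_mul, hC] at h1
  have hv : IsUnit (1 + w ^ 2 * (AdjoinRoot.mk Q a * AdjoinRoot.mk Q S +
      AdjoinRoot.mk Q b * AdjoinRoot.mk Q (derivative S))) := by
    apply Etalg.HenselNewton.isUnit_of_sub_mem (I := I) (HenselianRing.jac) isUnit_one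
    rw [add_sub_cancel_left]
    exact I.mul_mem_right _ (by rw [pow_two]; exact I.mul_mem_left _ hwI)
  obtain ⟨v, hv'⟩ := hv
  refine ⟨AdjoinRoot.mk Q b * (v⁻¹ : (AdjoinRoot Q)ˣ), ?_⟩
  have h3 : AdjoinRoot.mk Q b * AdjoinRoot.mk Q (derivative Q) = w * v := by
    rw [hv', h1]
    linear_combination h2 - AdjoinRoot.mk Q a * h0
  calc w = w * v * (v⁻¹ : (AdjoinRoot Q)ˣ) := by rw [mul_assoc, Units.mul_inv, mul_one]
    _ = _ := by rw [← h3]; ring

end Main

/-- The étale model. -/
theorem exists_etale_model (R : Type u) [CommRing R] [IsLocalRing R] [IsNoetherianRing R]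
    [IsAdicComplete (maximalIdeal R) R] [IsLocalRing (PowerSeries R)] [IsNoetherianRing (PowerSeries R)]
    [IsAdicComplete (maximalIdeal (PowerSeries R)) (PowerSeries R)]
    (x : R) (P a b : (PowerSeries R)[X]) (d : PowerSeries R) (hP : P.Monic)
    (hab : a * P + b * derivative P = C d) (hd : d ∈ maximalIdeal (PowerSeries R))
    (hreg : d.map (residue R) ≠ 0) :
    ∃ (C₀ : Type u) (_ : CommRing C₀) (_ : Algebra R[X] C₀) (_ : Algebra.Etale R[X] C₀),
      IsUnit (algebraMap R[X] C₀ (C x)) ∧
      Nonempty (PowerSeries R ⊗[R[X]] C₀ ≃ₐ[PowerSeries R]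
        Localization.Away (algebraMap (PowerSeries R) (AdjoinRoot P) (PowerSeries.C x * d))) := by
  obtain ⟨P₀, S, hP₀, hdeg, hPS⟩ := H436.Approx.exists_monic_approx d hreg 3 P hP
  obtain ⟨h, u, hW⟩ := PowerSeries.exists_isWeierstrassFactorization hreg
  have hQ : (P₀.map (algebraMap R[X] (PowerSeries R))).Monic := hP₀.map _
  have hdvd := derivative_dvd P (P₀.map (algebraMap R[X] (PowerSeries R))) S a b d hd hab hPS hQ
  obtain ⟨e⟩ := H436.Krasner.nonempty_algEquiv d hd P (P₀.map (algebraMap R[X] (PowerSeries R))) S a b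
    hP hQ (by rw [hP₀.natDegree_map, hdeg]) hab hPS
  let SP : StandardEtalePair R[X] :=
    { f := P₀
      monic_f := hP₀
      g := C (C x * h) * derivative P₀
      cond := ⟨C (C x * h), 0, 1, by ring⟩ }
  let pres : StandardEtalePresentation R[X] SP.Ring :=
    ⟨SP, SP.X, SP.hasMap_X, by simpa [StandardEtalePair.lift_X_left] using Function.bijective_id⟩
  refine ⟨SP.Ring, inferInstance, inferInstance, inferInstance, ?_, ?_⟩
  · -- `C x` divides `g`
    have h1 : IsUnit (aeval SP.X SP.g) := SP.hasMap_X.2
    have h2 : aeval SP.X SP.g = algebraMap R[X] SP.Ring (C x) *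
        (algebraMap R[X] SP.Ring h * aeval SP.X (derivative P₀)) := by
      change aeval SP.X (C (C x * h) * derivative P₀) = _
      rw [map_mul, aeval_C, map_mul, mul_assoc]
    rw [h2] at h1
    exact isUnit_of_mul_isUnit_left h1
  · let e1 := (pres.baseChange (T := PowerSeries R)).equivRing
    let e2 := (SP.map (algebraMap R[X] (PowerSeries R))).equivAwayAdjoinRoot
    have hmk : AdjoinRoot.mk (P₀.map (algebraMap R[X] (PowerSeries R)))
        ((C (C x * h) * derivative P₀).map (algebraMap R[X] (PowerSeries R))) =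
        algebraMap (PowerSeries R) (AdjoinRoot (P₀.map (algebraMap R[X] (PowerSeries R))))
          (PowerSeries.C x * (h : PowerSeries R)) *
          AdjoinRoot.mk (P₀.map (algebraMap R[X] (PowerSeries R)))
            (derivative (P₀.map (algebraMap R[X] (PowerSeries R)))) := by
      rw [Polynomial.map_mul, map_C, map_mul, derivative_map]
      congr 1
      change AdjoinRoot.mk _ (C _) = AdjoinRoot.mk _ (C _)
      congr 2
      rw [map_mul]
      congr 1
      exact Polynomial.coe_C x
    have hd1 : (h : PowerSeries R) ∣ d := ⟨u, hW.eq_mul⟩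
    have hd2 : d ∣ (h : PowerSeries R) := by
      obtain ⟨u', hu'⟩ := hW.isUnit
      refine ⟨((u'⁻¹ : (PowerSeries R)ˣ) : PowerSeries R), ?_⟩
      rw [hW.eq_mul, ← hu', mul_assoc, Units.mul_inv, mul_one]
    obtain ⟨e3⟩ := nonempty_away_equiv e
      (AdjoinRoot.mk (P₀.map (algebraMap R[X] (PowerSeries R)))
        ((C (C x * h) * derivative P₀).map (algebraMap R[X] (PowerSeries R))))
      (algebraMap (PowerSeries R) (AdjoinRoot P) (PowerSeries.C x * d)) 2 1 (by
        rw [← e.commutes, ← map_pow e]
        refine _root_.map_dvd e ?_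
        rw [hmk, sq]
        refine mul_dvd_mul (_root_.map_dvd _ (mul_dvd_mul_left _ hd1)) (hdvd.trans (_root_.map_dvd _ ?_))
        exact dvd_mul_left _ _) (by
        rw [← e.commutes, pow_one]
        refine _root_.map_dvd e ?_
        rw [hmk]
        exact (_root_.map_dvd _ (mul_dvd_mul_left _ hd2)).trans (dvd_mul_right _ _))
    exact ⟨(e1.trans e2).trans e3⟩

end Groth.Agent.Etdl.H217.EtaleModel
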